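import Groth.Agent.Refuted.K826.Ring
import Groth.Agent.Refuted.K826.Chart
import Mathlib.RingTheory.Localization.FractionRing
import Mathlib.RingTheory.MvPolynomial.Basic
import Mathlib.Algebra.MvPolynomial.Nilpotent

/-!
# The four charts of the two blow-ups of `Spec T`

`phi1`, `phi2` are the charts of the blow-up in `cI` at `x₀²`, `x₁²`; `psi1`, `psi2` are the charts of the blow-up in
`cJ` at `x₀`, `x₁`.
-/

set_option autoImplicit false
universe u
open TrivSqZeroExt MvPolynomial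

namespace Groth.Agent.Refuted.K467

open Groth.Agent.Refuted.K826

/-- The fractions `φ x / φ aⁿ`, `x ∈ Iⁿ`, form a subring. -/
def fracs {A C : Type u} [CommRing A] [CommRing C] (I : Ideal A) (a : A) (ha : a ∈ I) (φ : A →+* C) : Subring C where
  carrier := {c | ∃ n : ℕ, ∃ x ∈ I ^ n, φ a ^ n * c = φ x}
  one_mem' := ⟨0, 1, by simp, by simp⟩
  zero_mem' := ⟨0, 0, by simp, by simp⟩
  neg_mem' := by
    rintro c ⟨n, x, hx, h⟩
    exact ⟨n, -x, neg_mem hx, by rw [map_neg, ← h]; ring⟩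
  add_mem' := by
    rintro c d ⟨n, x, hx, h⟩ ⟨m, y, hy, h'⟩
    refine ⟨n + m, x * a ^ m + y * a ^ n, ?_, ?_⟩
    · refine add_mem ?_ ?_
      · rw [pow_add]; exact Ideal.mul_mem_mul hx (Ideal.pow_mem_pow ha m)
      · rw [add_comm n m, pow_add]; exact Ideal.mul_mem_mul hy (Ideal.pow_mem_pow ha n)
    · rw [map_add, map_mul, map_mul, map_pow, map_pow, ← h, ← h']; ring
  mul_mem' := by
    rintro c d ⟨n, x, hx, h⟩ ⟨m, y, hy, h'⟩
    refine ⟨n + m, x * y, ?_, ?_⟩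
    · rw [pow_add]; exact Ideal.mul_mem_mul hx hy
    · rw [map_mul, ← h, ← h']; ring

lemma mem_fracs {A C : Type u} [CommRing A] [CommRing C] {I : Ideal A} {a : A} {ha : a ∈ I} {φ : A →+* C} {c : C} :
    c ∈ fracs I a ha φ ↔ ∃ n : ℕ, ∃ x ∈ I ^ n, φ a ^ n * c = φ x := Iff.rfl

lemma map_mem_fracs {A C : Type u} [CommRing A] [CommRing C] {I : Ideal A} {a : A} {ha : a ∈ I} {φ : A →+* C}
    (x : A) : φ x ∈ fracs I a ha φ := ⟨0, x, by simp, by simp⟩

lemma mem_fracs_of_mul {A C : Type u} [CommRing A] [CommRing C] {I : Ideal A} {a : A} {ha : a ∈ I} {φ : A →+* C}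
    {c : C} {x : A} (hx : x ∈ I) (h : φ a * c = φ x) : c ∈ fracs I a ha φ :=
  ⟨1, x, by simpa using hx, by simpa using h⟩

variable {k : Type u} [Field k]

/-- `T` is generated by `k`, `X₀`, `X₁`, `e₁`, `e₂`. -/
lemma mem_of_gens (S : Subring (T k)) (hC : ∀ c : k, (inl (C c) : T k) ∈ S) (h0 : (x₀ : T k) ∈ S)
    (h1 : (x₁ : T k) ∈ S) (he1 : (e₁ : T k) ∈ S) (he2 : (e₂ : T k) ∈ S) (z : T k) : z ∈ S := by
  have hP : ∀ p : P k, (inl p : T k) ∈ S := by
    intro p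
    induction p using MvPolynomial.induction_on with
    | C c => exact hC c
    | add p q hp hq => rw [inl_add]; exact add_mem hp hq
    | mul_X p i hp =>
      rw [inl_mul]
      refine mul_mem hp ?_
      fin_cases i
      · exact h0
      · exact h1
  have hz : z = inl z.fst + inl z.snd.1 * e₁ + inl z.snd.2 * e₂ := by
    refine TrivSqZeroExt.ext ?_ (Prod.ext ?_ ?_) <;> simp
  rw [hz]
  exact add_mem (add_mem (hP _) (mul_mem (hP _) he1)) (mul_mem (hP _) he2)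

lemma fst_mk (p : Fin 2 → P k) (m₁ m₂ : P k × P k) (z : T k) : (mk p m₁ m₂ z).fst = aeval p z.fst := by
  change (inl (aeval p z.fst) + inr (aeval p z.snd.1 • m₁ + aeval p z.snd.2 • m₂) : T k).fst = _
  simp

lemma snd_mk (p : Fin 2 → P k) (m₁ m₂ : P k × P k) (z : T k) :
    (mk p m₁ m₂ z).snd = aeval p z.snd.1 • m₁ + aeval p z.snd.2 • m₂ := by
  change (inl (aeval p z.fst) + inr (aeval p z.snd.1 • m₁ + aeval p z.snd.2 • m₂) : T k).snd = _
  simp

lemma mk_inl (p : Fin 2 → P k) (m₁ m₂ : P k × P k) (q : P k) : mk p m₁ m₂ (inl q) = inl (aeval p q) := by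
  refine TrivSqZeroExt.ext ?_ ?_
  · rw [fst_mk]; simp
  · rw [snd_mk]; simp

lemma mk_inr (p : Fin 2 → P k) (m₁ m₂ : P k × P k) (q : P k × P k) :
    mk p m₁ m₂ (inr q) = inr (aeval p q.1 • m₁ + aeval p q.2 • m₂) := by
  refine TrivSqZeroExt.ext ?_ ?_
  · rw [fst_mk]; simp
  · rw [snd_mk]; simp

/-- `inl` of a nonzero polynomial is a nonzerodivisor. -/
lemma inl_mem_nonZeroDivisors {q : P k} (hq : q ≠ 0) : (inl q : T k) ∈ nonZeroDivisors (T k) := by
  rw [mem_nonZeroDivisors_iff_right]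
  intro z hz
  have h1 := congrArg TrivSqZeroExt.fst hz
  have h2 := congrArg (fun t : T k => t.snd.1) hz
  have h3 := congrArg (fun t : T k => t.snd.2) hz
  simp [hq] at h1 h2 h3
  exact TrivSqZeroExt.ext h1 (Prod.ext h2 h3)

/-- `X₀ ↦ X₀`, `X₁ ↦ X₀ X₁` is injective. -/
lemma aeval1_injective : Function.Injective (aeval ![X 0, X 0 * X 1] : P k →ₐ[k] P k) := by
  let K := FractionRing (P k)
  let σ : P k →ₐ[k] K := aeval ![algebraMap (P k) K (X 0), algebraMap (P k) K (X 1) / algebraMap (P k) K (X 0)]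
  have h0 : algebraMap (P k) K (X 0) ≠ 0 := by
    rw [Ne, FaithfulSMul.algebraMap_eq_zero_iff]
    exact X_ne_zero 0
  have h : σ.comp (aeval ![X 0, X 0 * X 1]) = IsScalarTower.toAlgHom k (P k) K := by
    ext i
    fin_cases i
    · simp [σ]
    · simp [σ, mul_div_assoc', mul_div_cancel_left₀ _ h0]
  have hi : Function.Injective (σ.comp (aeval ![X 0, X 0 * X 1])) := by
    rw [h]
    exact FaithfulSMul.algebraMap_injective (P k) K
  exact Function.Injective.of_comp (f := σ) (by simpa using hi)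

/-- `X₀ ↦ X₀ X₁`, `X₁ ↦ X₀` is injective. -/
lemma aeval2_injective : Function.Injective (aeval ![X 0 * X 1, X 0] : P k →ₐ[k] P k) := by
  let K := FractionRing (P k)
  let σ : P k →ₐ[k] K := aeval ![algebraMap (P k) K (X 1), algebraMap (P k) K (X 0) / algebraMap (P k) K (X 1)]
  have h0 : algebraMap (P k) K (X 1) ≠ 0 := by
    rw [Ne, FaithfulSMul.algebraMap_eq_zero_iff]
    exact X_ne_zero 1
  have h : σ.comp (aeval ![X 0 * X 1, X 0]) = IsScalarTower.toAlgHom k (P k) K := by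
    ext i
    fin_cases i
    · simp [σ, mul_div_assoc', mul_div_cancel_left₀ _ h0]
    · simp [σ]
  have hi : Function.Injective (σ.comp (aeval ![X 0 * X 1, X 0])) := by
    rw [h]
    exact FaithfulSMul.algebraMap_injective (P k) K
  exact Function.Injective.of_comp (f := σ) (by simpa using hi)


lemma mk_injective {p : Fin 2 → P k} {m₁ m₂ : P k × P k} (hp : Function.Injective (aeval p : P k →ₐ[k] P k))
    (hm : ∀ a b : P k, a • m₁ + b • m₂ = 0 → a = 0 ∧ b = 0) : Function.Injective (mk p m₁ m₂) := by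
  rw [injective_iff_map_eq_zero]
  intro z hz
  have h1 : aeval p z.fst = 0 := by
    rw [← fst_mk p m₁ m₂, hz]; rfl
  have h2 : aeval p z.snd.1 • m₁ + aeval p z.snd.2 • m₂ = 0 := by
    rw [← snd_mk p m₁ m₂, hz]; rfl
  obtain ⟨h3, h4⟩ := hm _ _ h2
  rw [map_eq_zero_iff _ hp] at h1 h3 h4
  exact TrivSqZeroExt.ext h1 (Prod.ext h3 h4)

/-- Divisibility by a fixed element can be tested on generators. -/
lemma dvd_of_span {A C : Type u} [CommRing A] [CommRing C] {s : Set A} {c : C} {φ : A →+* C}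
    (h : ∀ x ∈ s, c ∣ φ x) : ∀ x ∈ Ideal.span s, c ∣ φ x := by
  intro x hx
  have h1 : Ideal.span s ≤ (Ideal.span {c}).comap φ := by
    rw [Ideal.span_le]
    intro y hy
    exact Ideal.mem_span_singleton.2 (h y hy)
  exact Ideal.mem_span_singleton.1 (h1 hx)

lemma phi1_x₀ : phi1 (x₀ : T k) = x₀ := by simp [phi1, mk_inl]
lemma phi1_x₁ : phi1 (x₁ : T k) = x₀ * x₁ := by simp [phi1, mk_inl]
lemma phi1_e₁ : phi1 (e₁ : T k) = x₀ * e₁ - x₁ * e₂ := by
  rw [phi1, mk_inr]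
  refine TrivSqZeroExt.ext ?_ (Prod.ext ?_ ?_) <;> simp
lemma phi1_e₂ : phi1 (e₂ : T k) = e₂ := by simp [phi1, mk_inr]
lemma phi1_eta : phi1 (eta : T k) = x₀ ^ 2 * e₁ := by
  rw [phi1, mk_inr]
  refine TrivSqZeroExt.ext ?_ (Prod.ext ?_ ?_)
  · simp
  · simp [pow_two]
  · simp [pow_two]

lemma phi2_x₀ : phi2 (x₀ : T k) = x₀ * x₁ := by simp [phi2, mk_inl]
lemma phi2_x₁ : phi2 (x₁ : T k) = x₀ := by simp [phi2, mk_inl]
lemma phi2_e₁ : phi2 (e₁ : T k) = e₂ := by simp [phi2, mk_inr]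
lemma phi2_e₂ : phi2 (e₂ : T k) = x₀ * e₁ - x₁ * e₂ := by
  rw [phi2, mk_inr]
  refine TrivSqZeroExt.ext ?_ (Prod.ext ?_ ?_) <;> simp
lemma phi2_eta : phi2 (eta : T k) = x₀ ^ 2 * e₁ := by
  rw [phi2, mk_inr]
  refine TrivSqZeroExt.ext ?_ (Prod.ext ?_ ?_)
  · simp
  · simp [pow_two]
  · simp [pow_two]

lemma psi1_x₀ : psi1 (x₀ : T k) = x₀ := by simp [psi1, mk_inl]
lemma psi1_x₁ : psi1 (x₁ : T k) = x₀ * x₁ := by simp [psi1, mk_inl]
lemma psi1_e₁ : psi1 (e₁ : T k) = x₀ * e₁ := by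
  rw [psi1, mk_inr]
  refine TrivSqZeroExt.ext ?_ (Prod.ext ?_ ?_) <;> simp
lemma psi1_e₂ : psi1 (e₂ : T k) = x₀ * e₂ := by
  rw [psi1, mk_inr]
  refine TrivSqZeroExt.ext ?_ (Prod.ext ?_ ?_) <;> simp

lemma psi2_x₀ : psi2 (x₀ : T k) = x₀ * x₁ := by simp [psi2, mk_inl]
lemma psi2_x₁ : psi2 (x₁ : T k) = x₀ := by simp [psi2, mk_inl]
lemma psi2_e₁ : psi2 (e₁ : T k) = x₀ * e₂ := by
  rw [psi2, mk_inr]
  refine TrivSqZeroExt.ext ?_ (Prod.ext ?_ ?_) <;> simp
lemma psi2_e₂ : psi2 (e₂ : T k) = x₀ * e₁ := by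
  rw [psi2, mk_inr]
  refine TrivSqZeroExt.ext ?_ (Prod.ext ?_ ?_) <;> simp


lemma phi1_injective : Function.Injective (phi1 : T k →+* T k) := by
  refine mk_injective aeval1_injective fun a b h => ?_
  have h1 := congrArg Prod.fst h
  have h2 := congrArg Prod.snd h
  simp at h1 h2
  subst h1
  simpa using h2

lemma phi2_injective : Function.Injective (phi2 : T k →+* T k) := by
  refine mk_injective aeval2_injective fun a b h => ?_
  have h1 := congrArg Prod.fst h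
  have h2 := congrArg Prod.snd h
  simp at h1 h2
  subst h1
  simpa using h2

lemma psi1_injective : Function.Injective (psi1 : T k →+* T k) := by
  refine mk_injective aeval1_injective fun a b h => ?_
  have h1 := congrArg Prod.fst h
  have h2 := congrArg Prod.snd h
  simp at h1 h2
  exact ⟨h1, h2⟩

lemma psi2_injective : Function.Injective (psi2 : T k →+* T k) := by
  refine mk_injective aeval2_injective fun a b h => ?_
  have h1 := congrArg Prod.fst h
  have h2 := congrArg Prod.snd h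
  simp at h1 h2
  exact ⟨h2, h1⟩

lemma x₀_mem_nonZeroDivisors : (x₀ : T k) ∈ nonZeroDivisors (T k) := inl_mem_nonZeroDivisors (X_ne_zero 0)

variable (k)

lemma x₀_sq_mem_cI : (x₀ : T k) ^ 2 ∈ cI k := Ideal.subset_span (by simp)
lemma x₀_mul_x₁_mem_cI : (x₀ : T k) * x₁ ∈ cI k := Ideal.subset_span (by simp)
lemma x₁_sq_mem_cI : (x₁ : T k) ^ 2 ∈ cI k := Ideal.subset_span (by simp)
lemma eta_mem_cI : (eta : T k) ∈ cI k := Ideal.subset_span (by simp)
lemma x₀_mem_cJ : (x₀ : T k) ∈ cJ k := Ideal.subset_span (by simp)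
lemma x₁_mem_cJ : (x₁ : T k) ∈ cJ k := Ideal.subset_span (by simp)
lemma e₁_mem_cJ : (e₁ : T k) ∈ cJ k := Ideal.subset_span (by simp)
lemma e₂_mem_cJ : (e₂ : T k) ∈ cJ k := Ideal.subset_span (by simp)

/-- `phi1` is the chart of `Bl_I Spec T` at `x₀²`. -/
theorem isChart_phi1 : IsChart (cI k) (x₀ ^ 2) (phi1 : T k →+* T k) where
  mem := x₀_sq_mem_cI k
  reg := by
    rw [map_pow, phi1_x₀]
    exact pow_mem x₀_mem_nonZeroDivisors 2
  dvd := by
    refine dvd_of_span ?_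
    simp only [Set.mem_insert_iff, Set.mem_singleton_iff, forall_eq_or_imp, forall_eq]
    refine ⟨dvd_rfl, ?_, ?_, ?_⟩
    · exact ⟨x₁, by rw [map_mul, map_pow, phi1_x₀, phi1_x₁]; ring⟩
    · exact ⟨x₁ ^ 2, by rw [map_pow, map_pow, phi1_x₀, phi1_x₁]; ring⟩
    · exact ⟨e₁, by rw [map_pow, phi1_x₀, phi1_eta]⟩
  inj := phi1_injective
  gen c := by
    rw [← mem_fracs (ha := x₀_sq_mem_cI k)]
    refine mem_of_gens _ (fun c => ?_) ?_ ?_ ?_ ?_ c
    · have h := map_mem_fracs (ha := x₀_sq_mem_cI k) (φ := phi1) (inl (C c) : T k)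
      rwa [phi1, mk_inl, aeval_C] at h
    · have h := map_mem_fracs (ha := x₀_sq_mem_cI k) (φ := phi1) (x₀ : T k)
      rwa [phi1_x₀] at h
    · refine mem_fracs_of_mul (x₀_mul_x₁_mem_cI k) ?_
      rw [map_mul, map_pow, phi1_x₀, phi1_x₁]; ring
    · refine mem_fracs_of_mul (eta_mem_cI k) ?_
      rw [map_pow, phi1_x₀, phi1_eta]
    · have h := map_mem_fracs (ha := x₀_sq_mem_cI k) (φ := phi1) (e₂ : T k)
      rwa [phi1_e₂] at h

/-- `phi2` is the chart of `Bl_I Spec T` at `x₁²`. -/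
theorem isChart_phi2 : IsChart (cI k) (x₁ ^ 2) (phi2 : T k →+* T k) where
  mem := x₁_sq_mem_cI k
  reg := by
    rw [map_pow, phi2_x₁]
    exact pow_mem x₀_mem_nonZeroDivisors 2
  dvd := by
    refine dvd_of_span ?_
    simp only [Set.mem_insert_iff, Set.mem_singleton_iff, forall_eq_or_imp, forall_eq]
    refine ⟨?_, ?_, dvd_rfl, ?_⟩
    · exact ⟨x₁ ^ 2, by rw [map_pow, map_pow, phi2_x₀, phi2_x₁]; ring⟩
    · exact ⟨x₁, by rw [map_mul, map_pow, phi2_x₀, phi2_x₁]; ring⟩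
    · exact ⟨e₁, by rw [map_pow, phi2_x₁, phi2_eta]⟩
  inj := phi2_injective
  gen c := by
    rw [← mem_fracs (ha := x₁_sq_mem_cI k)]
    refine mem_of_gens _ (fun c => ?_) ?_ ?_ ?_ ?_ c
    · have h := map_mem_fracs (ha := x₁_sq_mem_cI k) (φ := phi2) (inl (C c) : T k)
      rwa [phi2, mk_inl, aeval_C] at h
    · have h := map_mem_fracs (ha := x₁_sq_mem_cI k) (φ := phi2) (x₁ : T k)
      rwa [phi2_x₁] at h
    · refine mem_fracs_of_mul (x₀_mul_x₁_mem_cI k) ?_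
      rw [map_mul, map_pow, phi2_x₀, phi2_x₁]; ring
    · refine mem_fracs_of_mul (eta_mem_cI k) ?_
      rw [map_pow, phi2_x₁, phi2_eta]
    · have h := map_mem_fracs (ha := x₁_sq_mem_cI k) (φ := phi2) (e₁ : T k)
      rwa [phi2_e₁] at h

/-- `psi1` is the chart of `Bl_J Spec T` at `x₀`. -/
theorem isChart_psi1 : IsChart (cJ k) x₀ (psi1 : T k →+* T k) where
  mem := x₀_mem_cJ k
  reg := by
    rw [psi1_x₀]
    exact x₀_mem_nonZeroDivisors
  dvd := by
    refine dvd_of_span ?_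
    simp only [Set.mem_insert_iff, Set.mem_singleton_iff, forall_eq_or_imp, forall_eq]
    refine ⟨dvd_rfl, ?_, ?_, ?_⟩
    · exact ⟨x₁, by rw [psi1_x₀, psi1_x₁]⟩
    · exact ⟨e₁, by rw [psi1_x₀, psi1_e₁]⟩
    · exact ⟨e₂, by rw [psi1_x₀, psi1_e₂]⟩
  inj := psi1_injective
  gen c := by
    rw [← mem_fracs (ha := x₀_mem_cJ k)]
    refine mem_of_gens _ (fun c => ?_) ?_ ?_ ?_ ?_ c
    · have h := map_mem_fracs (ha := x₀_mem_cJ k) (φ := psi1) (inl (C c) : T k)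
      rwa [psi1, mk_inl, aeval_C] at h
    · have h := map_mem_fracs (ha := x₀_mem_cJ k) (φ := psi1) (x₀ : T k)
      rwa [psi1_x₀] at h
    · refine mem_fracs_of_mul (x₁_mem_cJ k) ?_
      rw [psi1_x₀, psi1_x₁]
    · refine mem_fracs_of_mul (e₁_mem_cJ k) ?_
      rw [psi1_x₀, psi1_e₁]
    · refine mem_fracs_of_mul (e₂_mem_cJ k) ?_
      rw [psi1_x₀, psi1_e₂]

/-- `psi2` is the chart of `Bl_J Spec T` at `x₁`. -/
theorem isChart_psi2 : IsChart (cJ k) x₁ (psi2 : T k →+* T k) where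
  mem := x₁_mem_cJ k
  reg := by
    rw [psi2_x₁]
    exact x₀_mem_nonZeroDivisors
  dvd := by
    refine dvd_of_span ?_
    simp only [Set.mem_insert_iff, Set.mem_singleton_iff, forall_eq_or_imp, forall_eq]
    refine ⟨?_, dvd_rfl, ?_, ?_⟩
    · exact ⟨x₁, by rw [psi2_x₁, psi2_x₀]⟩
    · exact ⟨e₂, by rw [psi2_x₁, psi2_e₁]⟩
    · exact ⟨e₁, by rw [psi2_x₁, psi2_e₂]⟩
  inj := psi2_injective
  gen c := by
    rw [← mem_fracs (ha := x₁_mem_cJ k)]
    refine mem_of_gens _ (fun c => ?_) ?_ ?_ ?_ ?_ c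
    · have h := map_mem_fracs (ha := x₁_mem_cJ k) (φ := psi2) (inl (C c) : T k)
      rwa [psi2, mk_inl, aeval_C] at h
    · have h := map_mem_fracs (ha := x₁_mem_cJ k) (φ := psi2) (x₁ : T k)
      rwa [psi2_x₁] at h
    · refine mem_fracs_of_mul (x₀_mem_cJ k) ?_
      rw [psi2_x₁, psi2_x₀]
    · refine mem_fracs_of_mul (e₂_mem_cJ k) ?_
      rw [psi2_x₁, psi2_e₂]
    · refine mem_fracs_of_mul (e₁_mem_cJ k) ?_
      rw [psi2_x₁, psi2_e₁]

end Groth.Agent.Refuted.K467
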